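import Groth.Prelude.Def_GLin6

/-! Matrix coefficients of the substitution representation on forms, evaluated at matrices
with entries in a commutative algebra (helper83). -/

set_option autoImplicit false
universe u v w

noncomputable section

open TensorProduct

namespace Groth.Agent.H83.HM

open CoordGrp

variable {k : Type u} [CommRing k] {n d : ℕ}

section Defs
variable {S : Type v} [CommRing S] [Algebra k S]

variable (k d) in
/-- The matrix of the representation on forms of degree `d` at the matrix `M`. -/
def Cm (M : Matrix (Fin n) (Fin n) S) : Matrix (FormIdx n d) (FormIdx n d) S :=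
  fun l m => Mat.aeval n k M (formCoeff k n d l m)

theorem Cm_apply (M : Matrix (Fin n) (Fin n) S) (l m : FormIdx n d) :
    Cm k d M l m = Mat.aeval n k M (formCoeff k n d l m) := rfl

theorem aeval_one_eq :
    Mat.aeval n k (1 : Matrix (Fin n) (Fin n) S) =
      (Algebra.ofId k S).comp (Bialgebra.counitAlgHom k (Mat n k)) := by
  apply Mat.algHom_ext
  intro i j
  rw [Mat.aeval_X, AlgHom.comp_apply, Bialgebra.counitAlgHom_apply, Mat.counit_X, Matrix.one_apply]
  split_ifs <;> simp

theorem Cm_one : Cm k d (1 : Matrix (Fin n) (Fin n) S) = 1 := by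
  classical
  ext l m
  rw [Cm_apply, aeval_one_eq, AlgHom.comp_apply, Bialgebra.counitAlgHom_apply, counit_formCoeff,
    Matrix.one_apply]
  split_ifs <;> simp

theorem aeval_mul_eq (M M' : Matrix (Fin n) (Fin n) S) :
    Mat.aeval n k (M * M') =
      (Algebra.TensorProduct.lift (Mat.aeval n k M) (Mat.aeval n k M')
        (fun _ _ => Commute.all _ _)).comp (Bialgebra.comulAlgHom k (Mat n k)) := by
  apply Mat.algHom_ext
  intro i j
  rw [Mat.aeval_X, AlgHom.comp_apply, Bialgebra.comulAlgHom_apply, Mat.comul_X, map_sum,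
    Matrix.mul_apply]
  refine Finset.sum_congr rfl fun l _ => ?_
  rw [Algebra.TensorProduct.lift_tmul, Mat.aeval_X, Mat.aeval_X]

theorem Cm_mul (M M' : Matrix (Fin n) (Fin n) S) :
    Cm k d (M * M') = Cm k d M * Cm k d M' := by
  ext l m
  rw [Cm_apply, aeval_mul_eq, AlgHom.comp_apply, Bialgebra.comulAlgHom_apply, comul_formCoeff,
    map_sum, Matrix.mul_apply]
  refine Finset.sum_congr rfl fun j _ => ?_
  rw [Algebra.TensorProduct.lift_tmul]
  rfl

theorem Cm_map {S' : Type w} [CommRing S'] [Algebra k S'] (f : S →ₐ[k] S')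
    (M : Matrix (Fin n) (Fin n) S) :
    Cm k d (M.map f) = (Cm k d M).map f := by
  ext l m
  rw [Matrix.map_apply, Cm_apply, Cm_apply]
  have : Mat.aeval n k (M.map f) = f.comp (Mat.aeval n k M) := by
    apply Mat.algHom_ext
    intro i j
    simp
  rw [this]
  rfl

end Defs

section Subst
variable {S : Type v} [CommRing S] [Algebra k S]

variable (k) in
/-- The substitution `x_i ↦ Σ_j M_{ji} x_j`. -/
def substHom (M : Matrix (Fin n) (Fin n) S) : MvPolynomial (Fin n) k →ₐ[k] MvPolynomial (Fin n) S :=
  MvPolynomial.aeval fun i => ∑ j : Fin n, MvPolynomial.C (M j i) * MvPolynomial.X j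

@[simp] theorem substHom_X (M : Matrix (Fin n) (Fin n) S) (i : Fin n) :
    substHom k M (MvPolynomial.X i) = ∑ j : Fin n, MvPolynomial.C (M j i) * MvPolynomial.X j := by
  simp [substHom]

variable (k) in
/-- `k[x] ⊗ Mat → S[x]` induced by a matrix. -/
def psiHom (M : Matrix (Fin n) (Fin n) S) :
    MvPolynomial (Fin n) k ⊗[k] Mat n k →ₐ[k] MvPolynomial (Fin n) S :=
  Algebra.TensorProduct.lift
    (MvPolynomial.aeval (fun i => (MvPolynomial.X i : MvPolynomial (Fin n) S)))
    ((IsScalarTower.toAlgHom k S (MvPolynomial (Fin n) S)).comp (Mat.aeval n k M))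
    (fun _ _ => Commute.all _ _)

theorem psiHom_tmul (M : Matrix (Fin n) (Fin n) S) (p : MvPolynomial (Fin n) k) (a : Mat n k) :
    psiHom k M (p ⊗ₜ[k] a) =
      MvPolynomial.aeval (fun i => (MvPolynomial.X i : MvPolynomial (Fin n) S)) p *
        MvPolynomial.C (Mat.aeval n k M a) := by
  rw [psiHom, Algebra.TensorProduct.lift_tmul]
  rfl

theorem aeval_X_eq_map (p : MvPolynomial (Fin n) k) :
    MvPolynomial.aeval (fun i => (MvPolynomial.X i : MvPolynomial (Fin n) S)) p =
      MvPolynomial.map (algebraMap k S) p := by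
  have : ((MvPolynomial.aeval (fun i => (MvPolynomial.X i : MvPolynomial (Fin n) S)) :
      MvPolynomial (Fin n) k →ₐ[k] MvPolynomial (Fin n) S) : MvPolynomial (Fin n) k →+* _) =
      MvPolynomial.map (algebraMap k S) := by
    apply MvPolynomial.ringHom_ext
    · intro c
      simp
    · intro i
      simp
  exact congrArg (fun f => f p) this

theorem coeff_aeval_X (p : MvPolynomial (Fin n) k) (l : Fin n →₀ ℕ) :
    MvPolynomial.coeff l
      (MvPolynomial.aeval (fun i => (MvPolynomial.X i : MvPolynomial (Fin n) S)) p) =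
      algebraMap k S (MvPolynomial.coeff l p) := by
  rw [aeval_X_eq_map, MvPolynomial.coeff_map]

/-- Evaluating a coefficient of `w : k[x] ⊗ Mat` at `M` is taking the coefficient of `psiHom M w`. -/
theorem aeval_coeffT (M : Matrix (Fin n) (Fin n) S) (l : Fin n →₀ ℕ)
    (w : MvPolynomial (Fin n) k ⊗[k] Mat n k) :
    Mat.aeval n k M (coeffT (k := k) l w) = MvPolynomial.coeff l (psiHom k M w) := by
  induction w using TensorProduct.induction_on with
  | zero => simp
  | tmul p a =>
    rw [coeffT_tmul, psiHom_tmul, mul_comm, MvPolynomial.coeff_C_mul, coeff_aeval_X, map_smul,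
      Algebra.smul_def, mul_comm]
  | add x y hx hy => simp only [map_add, MvPolynomial.coeff_add, hx, hy]

theorem psiHom_comp_stdCoactAlg (M : Matrix (Fin n) (Fin n) S) :
    (psiHom k M).comp (stdCoactAlg n k) = substHom k M := by
  apply MvPolynomial.algHom_ext
  intro i
  rw [AlgHom.comp_apply, stdCoactAlg_X, substHom_X, map_sum]
  refine Finset.sum_congr rfl fun j _ => ?_
  rw [psiHom_tmul, MvPolynomial.aeval_X, Mat.aeval_X, mul_comm]

/-- Concrete description of the matrix coefficients: the coefficient of `x^l` in the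
substituted monomial `x^m`. -/
theorem Cm_eq_coeff (M : Matrix (Fin n) (Fin n) S) (l m : FormIdx n d) :
    Cm k d M l m = MvPolynomial.coeff l.1 (substHom k M (MvPolynomial.monomial m.1 1)) := by
  rw [Cm_apply, formCoeff_def, aeval_coeffT, ← psiHom_comp_stdCoactAlg, AlgHom.comp_apply]

theorem substHom_diagonal_monomial (t : Fin n → S) (m : Fin n →₀ ℕ) :
    substHom k (Matrix.diagonal t) (MvPolynomial.monomial m 1) =
      MvPolynomial.monomial m (∏ i, t i ^ m i) := by
  classical
  have hX : ∀ i, substHom k (Matrix.diagonal t) (MvPolynomial.X i) =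
      MvPolynomial.C (t i) * MvPolynomial.X i := by
    intro i
    rw [substHom_X, Finset.sum_eq_single i]
    · rw [Matrix.diagonal_apply_eq]
    · intro j _ hj
      rw [Matrix.diagonal_apply_ne _ hj, map_zero, zero_mul]
    · intro h; exact absurd (Finset.mem_univ i) h
  rw [MvPolynomial.monomial_eq, map_mul, MvPolynomial.C_1, map_one, one_mul, Finsupp.prod_fintype _ _
    (fun i => pow_zero _), map_prod]
  simp only [map_pow, hX, mul_pow]
  rw [Finset.prod_mul_distrib, MvPolynomial.monomial_eq, Finsupp.prod_fintype _ _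
    (fun i => pow_zero _), map_prod]
  simp only [map_pow]

theorem Cm_diagonal (t : Fin n → S) (l m : FormIdx n d) :
    Cm k d (Matrix.diagonal t) l m = if l = m then ∏ i, t i ^ m.1 i else 0 := by
  classical
  rw [Cm_eq_coeff, substHom_diagonal_monomial, MvPolynomial.coeff_monomial]
  by_cases h : l = m
  · subst h; simp
  · have : m.1 ≠ l.1 := fun e => h (Subtype.ext e.symm)
    simp [h, this]

end Subst

end Groth.Agent.H83.HM
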