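import Groth.Agent.H83.HM.ValWeights

/-! Hilbert–Mumford for `SL_n` acting on forms: easy direction for nullforms, and general
facts on the diagonal torus acting on vectors (helper83). -/

set_option autoImplicit false
universe u

noncomputable section

open TensorProduct

namespace Groth.Agent.H83.HM

open CoordGrp

variable {k : Type u} [Field k] {n d : ℕ}

attribute [local instance] cSL hSL

theorem actV_mul_diagonal (a : FormIdx n d → k) (g : Matrix (Fin n) (Fin n) k) (t : Fin n → k)
    (m : FormIdx n d) :
    actV a (g * Matrix.diagonal t) m = actV a g m * ∏ i, t i ^ m.1 i := by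
  classical
  rw [actV, Cm_mul, ← Matrix.vecMul_vecMul]
  change Matrix.vecMul (actV a g) (Cm k d (Matrix.diagonal t)) m = _
  rw [Matrix.vecMul, dotProduct, Finset.sum_eq_single m]
  · rw [Cm_diagonal, if_pos rfl]
  · intro l _ hl
    rw [Cm_diagonal, if_neg hl, mul_zero]
  · intro h; exact absurd (Finset.mem_univ m) h

theorem actV_mul (a : FormIdx n d → k) (g g' : Matrix (Fin n) (Fin n) k) :
    actV a (g * g') = actV (actV a g) g' := by
  rw [actV, Cm_mul, ← Matrix.vecMul_vecMul]
  rfl

theorem actV_one (a : FormIdx n d → k) : actV a (1 : Matrix (Fin n) (Fin n) k) = a := by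
  rw [actV, Cm_one, Matrix.vecMul_one]
  rfl

/-- The diagonal matrix of the one-parameter subgroup with weights `r` at `t`. -/
def dg (r : Fin n → ℤ) (t : k) : Matrix (Fin n) (Fin n) k := Matrix.diagonal fun i => t ^ r i

theorem dg_det (r : Fin n → ℤ) (hr : ∑ i, r i = 0) (t : k) (ht : t ≠ 0) : (dg r t).det = 1 := by
  rw [dg, Matrix.det_diagonal, Finset.prod_zpow_eq_zpow_sum_of_ne_zero_aux r t ht, hr, zpow_zero]
where
  Finset.prod_zpow_eq_zpow_sum_of_ne_zero_aux (r : Fin n → ℤ) (t : k) (ht : t ≠ 0) :
      ∏ i, t ^ r i = t ^ ∑ i, r i := by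
    classical
    induction (Finset.univ : Finset (Fin n)) using Finset.induction_on with
    | empty => simp
    | insert i s hi ih => rw [Finset.prod_insert hi, Finset.sum_insert hi, ih, zpow_add₀ ht]

theorem actV_mul_dg (a : FormIdx n d → k) (g : Matrix (Fin n) (Fin n) k) (r : Fin n → ℤ)
    (t : k) (ht : t ≠ 0) (m : FormIdx n d) :
    actV a (g * dg r t) m = actV a g m * t ^ wt m r := by
  classical
  rw [dg, actV_mul_diagonal]
  congr 1
  rw [wt]
  have : ∀ s : Finset (Fin n), ∏ i ∈ s, (t ^ r i) ^ m.1 i = t ^ ∑ i ∈ s, (m.1 i : ℤ) * r i := by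
    intro s
    induction s using Finset.induction_on with
    | empty => simp
    | insert i s hi ih =>
      rw [Finset.prod_insert hi, Finset.sum_insert hi, ih, zpow_add₀ ht, ← zpow_natCast,
        ← zpow_mul, mul_comm (r i)]
  exact this Finset.univ

theorem dg_mul (r : Fin n → ℤ) (s t : k) :
    dg r s * dg r t = dg r (s * t) := by
  rw [dg, dg, dg, Matrix.diagonal_mul_diagonal]
  congr 1
  funext i
  rw [mul_zpow]

/-- Invariants are constant along orbits. -/
theorem orbitHom_of_mem_invariants (a : FormIdx n d → k) (F : FormRing k n d)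
    (hF : F ∈ GLin.invariants k (SLn n k) (FormRing k n d)) :
    GLin.orbitHom k (SLn n k) (GLin.vecPt k (FormIdx n d) a) F =
      algebraMap k (SLn n k) (MvPolynomial.eval a F) := by
  have hF' : HopfRep.Comod.coact (k := k) (A := SLn n k) F = F ⊗ₜ[k] (1 : SLn n k) := hF
  change (Algebra.TensorProduct.lid k (SLn n k))
    ((Algebra.TensorProduct.map (GLin.vecPt k (FormIdx n d) a) (AlgHom.id k (SLn n k)))
      (HopfRep.Comod.coact (k := k) (A := SLn n k) F)) = _
  rw [hF', Algebra.TensorProduct.map_tmul, Algebra.TensorProduct.lid_tmul, map_one,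
    Algebra.algebraMap_eq_smul_one]
  rfl

theorem eval_actV_of_mem_invariants (a : FormIdx n d → k) (F : FormRing k n d)
    (hF : F ∈ GLin.invariants k (SLn n k) (FormRing k n d))
    (γ : Matrix (Fin n) (Fin n) k) (hγ : γ.det = 1) :
    MvPolynomial.eval (actV a γ) F = MvPolynomial.eval a F := by
  have h1 := congrArg (fun φ => φ F) (comp_orbitHom (SLn.pt n k γ hγ) a)
  simp only [AlgHom.comp_apply] at h1
  rw [orbitHom_of_mem_invariants a F hF, AlgHom.commutes, matOf_pt] at h1
  rw [← MvPolynomial.coe_aeval_eq_eval]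
  exact h1.symm

/-- Easy direction of the numerical criterion for nullforms. -/
theorem nullform_of_weights [Infinite k] (a : FormIdx n d → k) (g : Matrix (Fin n) (Fin n) k)
    (r : Fin n → ℤ) (hg : g.det = 1) (hr : ∑ i, r i = 0)
    (h : ∀ m, actV a g m ≠ 0 → 0 < wt m r) : GLin.IsNullform k (SLn n k) a := by
  classical
  intro F hF e he hFe
  set b := actV a g with hb
  let p : FormIdx n d → Polynomial k := fun m => Polynomial.C (b m) * Polynomial.X ^ (wt m r).toNat
  let G : Polynomial k := MvPolynomial.aeval p F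
  set c := MvPolynomial.eval a F with hc
  have hGeval : ∀ t : k, Polynomial.eval t G =
      MvPolynomial.eval (fun m => Polynomial.eval t (p m)) F := by
    intro t
    have := congrArg (fun φ => φ F) (MvPolynomial.comp_aeval p (Polynomial.aeval t : Polynomial k →ₐ[k] k))
    simp only [AlgHom.comp_apply] at this
    rw [Polynomial.coe_aeval_eq_eval] at this
    rw [this, MvPolynomial.aeval_eq_eval]
  have hpt : ∀ t : k, t ≠ 0 → ∀ m, Polynomial.eval t (p m) = actV a (g * dg r t) m := by
    intro t ht m
    rw [actV_mul_dg a g r t ht m]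
    simp only [p, Polynomial.eval_mul, Polynomial.eval_C, Polynomial.eval_pow, Polynomial.eval_X]
    by_cases hbm : b m = 0
    · rw [hbm, zero_mul, ← hb, hbm, zero_mul]
    · have hpos := h m hbm
      congr 1
      rw [← zpow_natCast, Int.toNat_of_nonneg hpos.le]
  have hG : ∀ t : k, t ≠ 0 → Polynomial.eval t G = c := by
    intro t ht
    rw [hGeval]
    have : (fun m => Polynomial.eval t (p m)) = actV a (g * dg r t) := funext (hpt t ht)
    rw [this]
    apply eval_actV_of_mem_invariants a F hF
    rw [Matrix.det_mul, hg, dg_det r hr t ht, one_mul]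
  have hGC : G = Polynomial.C c := by
    apply Polynomial.eq_of_infinite_eval_eq
    apply Set.Infinite.mono (s := {t : k | t ≠ 0})
    · intro t ht
      change Polynomial.eval t G = Polynomial.eval t (Polynomial.C c)
      rw [hG t ht, Polynomial.eval_C]
    · exact (Set.finite_singleton (0 : k)).infinite_compl
  have hp0 : ∀ m, Polynomial.eval 0 (p m) = 0 := by
    intro m
    simp only [p, Polynomial.eval_mul, Polynomial.eval_C, Polynomial.eval_pow, Polynomial.eval_X]
    by_cases hbm : b m = 0
    · rw [hbm, zero_mul]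
    · have hpos := h m hbm
      have : (wt m r).toNat ≠ 0 := by omega
      rw [zero_pow this, mul_zero]
  have h0 : Polynomial.eval 0 G = 0 := by
    rw [hGeval]
    have : (fun m => Polynomial.eval 0 (p m)) = fun _ => (0 : k) := funext hp0
    rw [this]
    have hcoef : MvPolynomial.eval (fun _ : FormIdx n d => (0 : k)) F = MvPolynomial.coeff 0 F := by
      rw [← MvPolynomial.constantCoeff_eq]
      exact (MvPolynomial.eval_zero' (R := k) (σ := FormIdx n d)) ▸ rfl
    rw [hcoef]
    apply hFe.coeff_eq_zero
    rw [map_zero]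
    exact (Nat.pos_iff_ne_zero.1 he).symm
  rw [hGC, Polynomial.eval_C] at h0
  exact h0

end Groth.Agent.H83.HM
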