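import Groth.Agent.H83.HM.Coef

/-! Points of `SL_n` with values in an algebra and their action on the space of forms
(helper83). -/

set_option autoImplicit false
universe u v w

noncomputable section

open TensorProduct

namespace Groth.Agent.H83.HM

open CoordGrp

variable (k : Type u) [CommRing k] (n d : ℕ)

/-- The bialgebra map `Mat → SL_n`. -/
abbrev slHom : Mat n k →ₐc[k] SLn n k := (SLn.mkHom n k).comp (Mat.toGLn n k)

/-- The coaction of `SL_n` on the coordinate ring of the space of forms. -/
@[reducible] def cSL : HopfRep.Comod k (SLn n k) (FormRing k n d) :=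
  GLin.comodAlong (slHom k n) (formsCoact k n d)

theorem hSL : @GLin.IsCoactAlg k _ (SLn n k) _ _ (FormRing k n d) _ _ (cSL k n d) :=
  GLin.isCoactAlg_comodAlong (slHom k n) (formsCoact k n d) (formsCoact_isCoactAlg k n d)

theorem linSL : @GLin.IsLinear k _ (SLn n k) _ _ (FormIdx n d) _ (cSL k n d) :=
  GLin.isLinear_comodAlong (slHom k n) (formsCoact k n d) (formsCoact_isLinear k n d)

attribute [local instance] cSL hSL

variable {k n d}

theorem slHom_X (i j : Fin n) : slHom k n (Mat.X i j) = SLn.X i j := by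
  change SLn.mk n k (Mat.toGLn n k (Mat.X i j)) = _
  rw [Mat.toGLn_X]
  rfl

theorem coact_X (m : FormIdx n d) :
    HopfRep.Comod.coact (k := k) (A := SLn n k) (MvPolynomial.X m : FormRing k n d) =
      ∑ l : FormIdx n d, (MvPolynomial.X l : FormRing k n d) ⊗ₜ[k] slHom k n (formCoeff k n d l m) := by
  change TensorProduct.map LinearMap.id ((slHom k n : Mat n k →ₐc[k] SLn n k) : Mat n k →ₗ[k] SLn n k)
    (formsCoactAlg k n d (MvPolynomial.X m)) = _
  rw [formsCoactAlg_X, map_sum]
  refine Finset.sum_congr rfl fun l _ => ?_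
  rw [TensorProduct.map_tmul]
  rfl

theorem orbitHom_X (a : FormIdx n d → k) (m : FormIdx n d) :
    GLin.orbitHom k (SLn n k) (GLin.vecPt k (FormIdx n d) a) (MvPolynomial.X m) =
      ∑ l : FormIdx n d, a l • slHom k n (formCoeff k n d l m) := by
  change (Algebra.TensorProduct.lid k (SLn n k))
    ((Algebra.TensorProduct.map (GLin.vecPt k (FormIdx n d) a) (AlgHom.id k (SLn n k)))
      (HopfRep.Comod.coact (k := k) (A := SLn n k) (MvPolynomial.X m : FormRing k n d))) = _
  rw [coact_X, map_sum, map_sum]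
  refine Finset.sum_congr rfl fun l _ => ?_
  rw [Algebra.TensorProduct.map_tmul, Algebra.TensorProduct.lid_tmul]
  simp

section SPoints
variable {S : Type v} [CommRing S] [Algebra k S]

/-- The matrix of a point of `SL_n`. -/
def matOf (g : SLn n k →ₐ[k] S) : Matrix (Fin n) (Fin n) S := fun i j => g (SLn.X i j)

theorem comp_slHom (g : SLn n k →ₐ[k] S) :
    g.comp (slHom k n : Mat n k →ₐ[k] SLn n k) = Mat.aeval n k (matOf g) := by
  apply Mat.algHom_ext
  intro i j
  rw [AlgHom.comp_apply, Mat.aeval_X]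
  change g (slHom k n (Mat.X i j)) = _
  rw [slHom_X]
  rfl

theorem apply_slHom (g : SLn n k →ₐ[k] S) (q : Mat n k) :
    g (slHom k n q) = Mat.aeval n k (matOf g) q :=
  congrArg (fun f => f q) (comp_slHom g)

theorem matOf_det (g : SLn n k →ₐ[k] S) : (matOf g).det = 1 := by
  have h1 : matOf g = (g.comp (SLn.mk n k)).mapMatrix (GLn.genMat n k) := by
    ext i j
    rfl
  rw [h1, ← AlgHom.map_det, ← GLn.det_eq, AlgHom.comp_apply, SLn.det_eq_one, map_one]

theorem mk_Dinv : SLn.mk n k (GLn.Dinv : GLn n k) = 1 := by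
  have h := congrArg (SLn.mk n k) (GLn.det_mul_Dinv (n := n) (k := k))
  rw [map_mul, SLn.det_eq_one, one_mul, map_one] at h
  exact h

theorem pt_matOf (g : SLn n k →ₐ[k] S) : SLn.pt n k (matOf g) (matOf_det g) = g := by
  apply SLn.algHom_ext
  · intro i j
    rw [SLn.pt_X]
    rfl
  · rw [mk_Dinv, map_one, map_one]

theorem matOf_pt (M : Matrix (Fin n) (Fin n) S) (h : M.det = 1) : matOf (SLn.pt n k M h) = M := by
  ext i j
  exact SLn.pt_X M h i j

/-- The vector `a` (with entries in `k`) moved by the matrix `M` with entries in `S`. -/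
def actV (a : FormIdx n d → k) (M : Matrix (Fin n) (Fin n) S) : FormIdx n d → S :=
  Matrix.vecMul (fun l => algebraMap k S (a l)) (Cm k d M)

theorem actV_apply (a : FormIdx n d → k) (M : Matrix (Fin n) (Fin n) S) (m : FormIdx n d) :
    actV a M m = ∑ l, algebraMap k S (a l) * Cm k d M l m := rfl

/-- The orbit map followed by a point `g` is evaluation at the moved vector. -/
theorem comp_orbitHom (g : SLn n k →ₐ[k] S) (a : FormIdx n d → k) :
    g.comp (GLin.orbitHom k (SLn n k) (GLin.vecPt k (FormIdx n d) a)) =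
      MvPolynomial.aeval (actV a (matOf g)) := by
  apply MvPolynomial.algHom_ext
  intro m
  rw [AlgHom.comp_apply, orbitHom_X, map_sum, MvPolynomial.aeval_X, actV_apply]
  refine Finset.sum_congr rfl fun l _ => ?_
  rw [map_smul, apply_slHom, Algebra.smul_def]
  rfl

end SPoints

theorem actPt_pt (g : Matrix (Fin n) (Fin n) k) (hg : g.det = 1) (a : FormIdx n d → k) :
    GLin.actPt k (SLn.pt n k g hg) (GLin.vecPt k (FormIdx n d) a) =
      GLin.vecPt k (FormIdx n d) (actV a g) := by
  change (SLn.pt n k g hg).comp (GLin.orbitHom k (SLn n k) (GLin.vecPt k (FormIdx n d) a)) = _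
  rw [comp_orbitHom, matOf_pt]

end Groth.Agent.H83.HM
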