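import Groth.Agent.H83.HM.ValWeights
import Groth.Agent.H93.OrbitClosure
import Groth.Agent.H93.LinCoact
import Groth.Agent.H82.OrbitVal
import Groth.Agent.S12559

/-! Hilbert–Mumford for `SL_n` acting on forms: a nullform is destabilised by a diagonalisable
one-parameter subgroup (hard direction, helper83). -/

set_option autoImplicit false
universe u

noncomputable section

open TensorProduct

namespace Groth.Agent.H83.HM

open CoordGrp

section General

variable {k : Type u} [Field k] {A : Type u} [CommRing A] [HopfAlgebra k A]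
  {ι : Type} [Fintype ι] [HopfRep.Comod k A (MvPolynomial ι k)]
  [GLin.IsCoactAlg k A (MvPolynomial ι k)]

/-- For a linearly reductive group acting linearly, the origin lies in the orbit closure of a
nullform (second half of the proof of S19603 by helper93, for an index type in `Type`). -/
theorem inOrbitClosure_zero_of_nullform (hG : HopfRep.IsLinearlyReductive k A)
    (hlin : GLin.IsLinear k A ι) (v : ι → k) (hnull : GLin.IsNullform k A v) :
    GLin.InOrbitClosure k A (GLin.vecPt k ι v) (GLin.vecPt k ι (fun _ => (0 : k))) := by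
  classical
  intro f hf
  obtain ⟨ψ, h1, h2, -⟩ := Groth.Agent.H93.exists_reynolds_dualAct (R := MvPolynomial ι k) hG
  set g := Groth.Agent.H93.dualAct (MvPolynomial ι k) ψ f with hg
  have hgI : g ∈ RingHom.ker (GLin.orbitHom k A (GLin.vecPt k ι v)) := by
    rw [Groth.Agent.H93.mem_ker_orbitHom_iff] at hf ⊢
    exact Groth.Agent.H93.dualAct_mem_of_isSubcomod (Groth.Agent.H93.isSubcomod_ker_theta _) ψ hf
  have hgC : g ∈ GLin.invariants k A (MvPolynomial ι k) := h1 f
  have hgv : GLin.vecPt k ι v g = 0 :=
    Groth.Agent.H93.apply_eq_zero_of_mem_ker_orbitHom (A := A) _ g hgI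
  have hcomp : ∀ d, 0 < d → MvPolynomial.eval v (MvPolynomial.homogeneousComponent d g) = 0 :=
    fun d hd => hnull _ (Groth.Agent.H93.homogeneousComponent_mem_invariants hlin d g hgC) d hd
      (MvPolynomial.homogeneousComponent_isHomogeneous d g)
  have hev : MvPolynomial.eval v g = MvPolynomial.coeff 0 g := by
    conv_lhs => rw [← MvPolynomial.sum_homogeneousComponent g]
    rw [map_sum, Finset.sum_eq_single 0]
    · rw [MvPolynomial.homogeneousComponent_zero, MvPolynomial.eval_C]
    · intro d _ hd
      exact hcomp d (Nat.pos_of_ne_zero hd)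
    · intro h
      simp at h
  have h0 : MvPolynomial.homogeneousComponent 0 g = MvPolynomial.homogeneousComponent 0 f := by
    rw [hg, Groth.Agent.H93.homogeneousComponent_dualAct hlin, MvPolynomial.homogeneousComponent_zero]
    apply h2
    rw [← MvPolynomial.algebraMap_eq]
    exact (GLin.invariants k A (MvPolynomial ι k)).algebraMap_mem _
  have h0' : MvPolynomial.coeff 0 g = MvPolynomial.coeff 0 f := by
    rw [MvPolynomial.homogeneousComponent_zero, MvPolynomial.homogeneousComponent_zero] at h0
    exact MvPolynomial.C_injective _ _ h0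
  rw [RingHom.mem_ker]
  have h3 : GLin.vecPt k ι (fun _ => (0 : k)) f = MvPolynomial.coeff 0 f := by
    rw [GLin.vecPt, MvPolynomial.aeval_zero', MvPolynomial.constantCoeff_eq]
    rfl
  have h4 : GLin.vecPt k ι v g = MvPolynomial.eval v g := rfl
  change GLin.vecPt k ι (fun _ => (0 : k)) f = 0
  rw [h3, ← h0', ← hev, ← h4, hgv]

end General

section SL

variable {k : Type u} [Field k] [IsAlgClosed k] {n d : ℕ}

attribute [local instance] cSL hSL

/-- From a point of the orbit closure: valuation data and then weights. -/
theorem exists_weights_of_inOrbitClosure (a y : FormIdx n d → k)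
    (hy : GLin.InOrbitClosure k (SLn n k) (GLin.vecPt k (FormIdx n d) a)
      (GLin.vecPt k (FormIdx n d) y)) :
    ∃ (g : Matrix (Fin n) (Fin n) k) (r : Fin n → ℤ), g.det = 1 ∧ ∑ i, r i = 0 ∧
      (∀ m, actV a g m ≠ 0 → 0 ≤ wt m r) ∧
      ((∀ m, y m = 0) → ∀ m, actV a g m ≠ 0 → 0 < wt m r) ∧
      (r = 0 → ∃ γ : Matrix (Fin n) (Fin n) k, γ.det = 1 ∧ actV a γ = y) := by
  obtain ⟨R, _, _, _, _, res, Ξ, h, hres, hcomp, hresh⟩ :=
    Groth.Agent.H82.OrbitVal.main
      (GLin.orbitHom k (SLn n k) (GLin.vecPt k (FormIdx n d) a))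
      (GLin.vecPt k (FormIdx n d) y) hy
  have hu : ∀ m, algebraMap R (FractionRing R) (h (MvPolynomial.X m)) =
      actV a (matOf Ξ) m := by
    intro m
    have := congrArg (fun F => F (MvPolynomial.X m)) hcomp
    rw [comp_orbitHom] at this
    simp only [MvPolynomial.aeval_X] at this
    exact this
  have hresu : ∀ m, res (h (MvPolynomial.X m)) = y m := by
    intro m
    have := congrArg (fun F => F (MvPolynomial.X m)) hresh
    simpa using this
  obtain ⟨g, r, hg, hr, h1, h2, h3⟩ := val_weights res hres (matOf Ξ) (matOf_det Ξ) a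
    (fun m => h (MvPolynomial.X m)) hu
  refine ⟨g, r, hg, hr, h1, ?_, ?_⟩
  · intro hy0
    exact h2 (fun m => by rw [hresu, hy0])
  · intro hr0
    have hint := h3 hr0
    -- the matrix of `Ξ` has entries in `R`
    have hex : ∀ i j, ∃ z : R, algebraMap R (FractionRing R) z = matOf Ξ i j := fun i j =>
      (valInt R (FractionRing R)).exists_of_le_one (hint i j)
    choose N hN using hex
    let NM : Matrix (Fin n) (Fin n) R := fun i j => N i j
    have hNM : NM.map (IsScalarTower.toAlgHom k R (FractionRing R)) = matOf Ξ := by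
      ext i j
      exact hN i j
    have hdetN : NM.det = 1 := by
      apply IsFractionRing.injective R (FractionRing R)
      have := (AlgHom.map_det (IsScalarTower.toAlgHom k R (FractionRing R)) NM)
      rw [AlgHom.mapMatrix_apply, hNM, matOf_det] at this
      rw [map_one]
      exact this
    refine ⟨NM.map res, ?_, ?_⟩
    · have := (AlgHom.map_det res NM).symm
      rw [AlgHom.mapMatrix_apply] at this
      rw [this, hdetN, map_one]
    · funext m
      -- `u m = actV a NM m` in `R`
      have h4 : h (MvPolynomial.X m) = actV a NM m := by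
        apply IsFractionRing.injective R (FractionRing R)
        rw [hu m, ← hNM]
        change _ = (IsScalarTower.toAlgHom k R (FractionRing R)) (actV a NM m)
        rw [actV_apply, actV_apply, map_sum]
        refine Finset.sum_congr rfl fun l _ => ?_
        rw [map_mul, Cm_map, AlgHom.commutes]
        rfl
      rw [← hresu m, h4, actV_apply, actV_apply, map_sum]
      refine Finset.sum_congr rfl fun l _ => ?_
      rw [map_mul, Cm_map, AlgHom.commutes]
      rfl

/-- Hard direction of the numerical criterion for semistability. -/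
theorem exists_weights_of_nullform [CharZero k] (a : FormIdx n d → k)
    (hnull : GLin.IsNullform k (SLn n k) a) :
    ∃ (g : Matrix (Fin n) (Fin n) k) (r : Fin n → ℤ), g.det = 1 ∧ ∑ i, r i = 0 ∧
      ∀ m, actV a g m ≠ 0 → 0 < wt m r := by
  have hy := inOrbitClosure_zero_of_nullform (Groth.Agent.S12559.result k n) (linSL k n d) a hnull
  obtain ⟨g, r, hg, hr, -, h2, -⟩ := exists_weights_of_inOrbitClosure a (fun _ => 0) hy
  exact ⟨g, r, hg, hr, h2 (fun _ => rfl)⟩

end SL

end Groth.Agent.H83.HM
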