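import Groth.Agent.H83.HM.Sorted
import Groth.Agent.H83.HM.FactNe

/-! Plane quartics: the non-stable ones are those with a triple point or a tacnode in normal
position (helper83). -/

set_option autoImplicit false
universe u

noncomputable section

namespace Groth.Agent.H83.HM

open CoordGrp MvPolynomial

variable {k : Type u} [Field k]

attribute [local instance] cSL hSL

theorem quartic_not_stable_iff [IsAlgClosed k] [CharZero k] (a : FormIdx 3 4 → k) :
    ¬ GLin.IsStableVec k (SLn 3 k) a ↔
      ∃ M : Matrix (Fin 3) (Fin 3) k, M.det = 1 ∧
        ∃ F' : MvPolynomial (Fin 3) k,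
          F' = aeval (fun i : Fin 3 => ∑ j : Fin 3, C (M i j) * X j) (formPoly a) ∧
          (∀ ij : ℕ × ℕ, ij ∈ ({(0, 0), (1, 0), (0, 1), (2, 0), (1, 1)} : Finset (ℕ × ℕ)) →
            F'.coeff (Finsupp.single 0 (4 - ij.1 - ij.2) + Finsupp.single 1 ij.1 +
              Finsupp.single 2 ij.2) = 0) ∧
          (F'.coeff (Finsupp.single 0 2 + Finsupp.single 2 2) = 0 ∨
            F'.coeff (Finsupp.single 0 1 + Finsupp.single 1 3) = 0) := by
  classical
  constructor
  · intro hns
    obtain ⟨M, r, hM, hr, hr0, hmono, hw⟩ := exists_sorted_destabilizing a hns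
    have h01 : r 0 ≤ r 1 := hmono (by decide)
    have h12 : r 1 ≤ r 2 := hmono (by decide)
    rw [Fin.sum_univ_three] at hr
    have hneg : r 0 < 0 := by
      by_contra h
      push Not at h
      apply hr0
      funext j
      fin_cases j
      · change r 0 = 0; omega
      · change r 1 = 0; omega
      · change r 2 = 0; omega
    have key : ∀ e₀ e₁ e₂ : ℕ, (e₀ : ℤ) * r 0 + e₁ * r 1 + e₂ * r 2 < 0 →
        coeff (Finsupp.single 0 e₀ + Finsupp.single 1 e₁ + Finsupp.single 2 e₂)
          (subst M (formPoly a)) = 0 := by
      intro e₀ e₁ e₂ hlt
      by_contra hne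
      have := hw _ (mem_support_iff.mpr hne)
      rw [wtS_three] at this
      omega
    refine ⟨M, hM, subst M (formPoly a), rfl, ?_, ?_⟩
    · intro ij hij
      simp only [Finset.mem_insert, Finset.mem_singleton] at hij
      rcases hij with rfl | rfl | rfl | rfl | rfl
      · exact key 4 0 0 (by push_cast; omega)
      · exact key 3 1 0 (by push_cast; omega)
      · exact key 3 0 1 (by push_cast; omega)
      · exact key 2 2 0 (by push_cast; omega)
      · exact key 2 1 1 (by push_cast; omega)
    · by_cases h1 : 0 < r 1
      · left
        have := key 2 0 2 (by push_cast; omega)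
        simpa using this
      · right
        have := key 1 3 0 (by push_cast; omega)
        simpa using this
  · rintro ⟨M, hM, F', rfl, h5, h6⟩
    have hd : (((4 : ℕ).factorial : ℕ) : k) ≠ 0 := Nat.cast_ne_zero.mpr (Nat.factorial_ne_zero 4)
    have hMdet : M.det ≠ 0 := by rw [hM]; exact one_ne_zero
    have hF' : aeval (fun i : Fin 3 => ∑ j : Fin 3, C (M i j) * X j) (formPoly a) =
        subst M (formPoly a) := rfl
    rw [hF'] at h5 h6
    have hhom : (subst M (formPoly a)).IsHomogeneous 4 :=
      subst_isHomogeneous M (formPoly_isHomogeneous a)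
    have h5' : ∀ s : Fin 3 →₀ ℕ, s 0 + s 1 + s 2 = 4 →
        (s 1, s 2) ∈ ({(0, 0), (1, 0), (0, 1), (2, 0), (1, 1)} : Finset (ℕ × ℕ)) →
        coeff s (subst M (formPoly a)) = 0 := by
      intro s hdeg hmem
      have := h5 (s 1, s 2) hmem
      simp only at this
      have h0 : 4 - s 1 - s 2 = s 0 := by omega
      rw [h0, ← eq_single_sum3] at this
      exact this
    have hsdeg : ∀ s ∈ (subst M (formPoly a)).support, s 0 + s 1 + s 2 = 4 := by
      intro s hs
      have := support_degree hhom hs
      rw [Finsupp.degree_eq_sum, Fin.sum_univ_three] at this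
      exact this
    rcases h6 with h6 | h6
    · -- triple point: weights (-2, 1, 1)
      apply not_stable_of_support hd a M ![-2, 1, 1] hMdet (by simp [Fin.sum_univ_three])
        (by
          intro h
          have := congrFun h 0
          simp at this)
      intro s hs
      have hdeg := hsdeg s hs
      by_contra hlt
      push Not at hlt
      rw [eq_single_sum3 s, wtS_three] at hlt
      simp only [Matrix.cons_val_zero, Matrix.cons_val_one, Matrix.cons_val_two,
        Matrix.head_cons, Matrix.tail_cons] at hlt
      have hs0 : 2 ≤ s 0 := by omega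
      have : coeff s (subst M (formPoly a)) = 0 := by
        by_cases h02 : s 1 = 0 ∧ s 2 = 2
        · have hs2 : s = Finsupp.single 0 2 + Finsupp.single 2 2 := by
            have h0 : s 0 = 2 := by omega
            rw [eq_single_sum3 s, h0, h02.1, h02.2]
            simp
          rw [hs2]
          exact h6
        · apply h5' s hdeg
          simp only [Finset.mem_insert, Finset.mem_singleton, Prod.mk.injEq]
          omega
      exact (mem_support_iff.mp hs) this
    · -- tacnode: weights (-1, 0, 1)
      apply not_stable_of_support hd a M ![-1, 0, 1] hMdet (by simp [Fin.sum_univ_three])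
        (by
          intro h
          have := congrFun h 0
          simp at this)
      intro s hs
      have hdeg := hsdeg s hs
      by_contra hlt
      push Not at hlt
      rw [eq_single_sum3 s, wtS_three] at hlt
      simp only [Matrix.cons_val_zero, Matrix.cons_val_one, Matrix.cons_val_two,
        Matrix.head_cons, Matrix.tail_cons] at hlt
      have hs0 : s 2 < s 0 := by omega
      have : coeff s (subst M (formPoly a)) = 0 := by
        by_cases h13 : s 0 = 1 ∧ s 1 = 3
        · have hs2 : s = Finsupp.single 0 1 + Finsupp.single 1 3 := by
            have h2 : s 2 = 0 := by omega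
            rw [eq_single_sum3 s, h13.1, h13.2, h2]
            simp
          rw [hs2]
          exact h6
        · apply h5' s hdeg
          simp only [Finset.mem_insert, Finset.mem_singleton, Prod.mk.injEq]
          omega
      exact (mem_support_iff.mp hs) this

end Groth.Agent.H83.HM
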