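import Groth.Agent.H83.HM.Easy
import Groth.Agent.H83.RedSmooth

/-! The coordinate ring of `SL_n` is generated by the matrix entries; points of a finitely
generated algebra over an algebraically closed field (helper83). -/

set_option autoImplicit false
universe u v

noncomputable section

namespace Groth.Agent.H83.HM

open CoordGrp

variable {k : Type u} [CommRing k] {n : ℕ}

theorem slHom_comp_aeval :
    ((slHom k n : Mat n k →ₐc[k] SLn n k) : Mat n k →ₐ[k] SLn n k).comp
        (GLb.aeval n k (fun i j => (Mat.X i j : Mat n k)) 1) =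
      (SLn.mk n k).comp (GLn.mk n k) := by
  apply GLb.algHom_ext
  · intro i j
    rw [AlgHom.comp_apply, GLb.aeval_X]
    change slHom k n (Mat.X i j) = _
    rw [slHom_X]
    rfl
  · rw [AlgHom.comp_apply, GLb.aeval_D, map_one]
    exact (mk_Dinv (n := n) (k := k)).symm

theorem slHom_surjective : Function.Surjective (slHom k n) := by
  intro z
  obtain ⟨y, rfl⟩ := Ideal.Quotient.mkₐ_surjective k (GLn.slIdeal n k) z
  obtain ⟨w, rfl⟩ := Ideal.Quotient.mkₐ_surjective k (GLb.relIdeal n k) y
  refine ⟨GLb.aeval n k (fun i j => (Mat.X i j : Mat n k)) 1 w, ?_⟩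
  exact congrArg (fun f => f w) (slHom_comp_aeval (k := k) (n := n))

instance : Algebra.FiniteType k (SLn n k) :=
  Algebra.FiniteType.of_surjective
    ((slHom k n : Mat n k →ₐc[k] SLn n k) : Mat n k →ₐ[k] SLn n k) slHom_surjective

end Groth.Agent.H83.HM

namespace Groth.Agent.H83.HM

variable {k : Type u} [Field k] {R : Type v} [CommRing R] [Algebra k R]

/-- Two `k`-points with the same kernel are equal. -/
theorem algHom_eq_of_ker_le (f g : R →ₐ[k] k) (h : RingHom.ker f ≤ RingHom.ker g) : f = g := by
  ext z
  have h1 : z - algebraMap k R (f z) ∈ RingHom.ker f := by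
    rw [RingHom.mem_ker, map_sub, AlgHom.commutes]
    exact sub_self _
  have h2 := h h1
  rw [RingHom.mem_ker, map_sub, AlgHom.commutes, sub_eq_zero] at h2
  exact h2.symm

end Groth.Agent.H83.HM
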