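import Groth.Agent.H83.HM.Points
import Groth.Agent.S11796

/-! From a point of `SL_n` with values in the fraction field of a valuation ring moving a vector
to an integral vector: the Cartan (Smith) decomposition and its consequences for valuations
(helper83). -/

set_option autoImplicit false
universe u

noncomputable section

open TensorProduct

namespace Groth.Agent.H83.HM

open CoordGrp

variable {k : Type u} [Field k] {n d : ℕ}

section
variable {R : Type u} [CommRing R] [IsDomain R] [ValuationRing R]
  {K : Type u} [Field K] [Algebra R K] [IsFractionRing R K]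

variable (R K) in
theorem valInt : (ValuationRing.valuation R K).Integers R where
  hom_inj := IsFractionRing.injective R K
  map_le_one := fun x => by
    have : algebraMap R K x ∈ (ValuationRing.valuation R K).integer :=
      (ValuationRing.mem_integer_iff R K _).mpr ⟨x, rfl⟩
    exact this
  exists_of_le_one := fun r hr => (ValuationRing.mem_integer_iff R K r).mp hr

theorem val_lt_one_of_mem (z : R) (hz : z ∈ IsLocalRing.maximalIdeal R) :
    ValuationRing.valuation R K (algebraMap R K z) < 1 := by
  have h1 := (valInt R K).map_le_one z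
  rcases lt_or_eq_of_le h1 with h | h
  · exact h
  · exact absurd ((valInt R K).isUnit_iff_valuation_eq_one.mpr h)
      ((IsLocalRing.mem_maximalIdeal z).mp hz)

theorem val_eq_one_of_isUnit (z : R) (hz : IsUnit z) :
    ValuationRing.valuation R K (algebraMap R K z) = 1 :=
  (valInt R K).isUnit_iff_valuation_eq_one.mp hz

variable [Algebra k R] [Algebra k K] [IsScalarTower k R K]

theorem vecMul_Cm_diagonal (x : FormIdx n d → K) (t : Fin n → K) (m : FormIdx n d) :
    Matrix.vecMul x (Cm k d (Matrix.diagonal t)) m = x m * ∏ i, t i ^ m.1 i := by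
  classical
  rw [Matrix.vecMul, dotProduct, Finset.sum_eq_single m]
  · rw [Cm_diagonal, if_pos rfl]
  · intro l _ hl
    rw [Cm_diagonal, if_neg hl, mul_zero]
  · intro h; exact absurd (Finset.mem_univ m) h

/-- The key decomposition. -/
theorem val_decomp (res : R →ₐ[k] k)
    (hres : RingHom.ker (res : R →+* k) = IsLocalRing.maximalIdeal R)
    (M : Matrix (Fin n) (Fin n) K) (hM : M.det = 1) (a : FormIdx n d → k) (u : FormIdx n d → R)
    (hu : ∀ m, algebraMap R K (u m) = actV a M m) :
    ∃ (g : Matrix (Fin n) (Fin n) k) (t : Fin n → K), g.det = 1 ∧ ∏ i, t i = 1 ∧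
      (∀ m, actV a g m ≠ 0 → ValuationRing.valuation R K (∏ i, t i ^ m.1 i) ≤ 1) ∧
      ((∀ m, res (u m) = 0) → ∀ m, actV a g m ≠ 0 →
        ValuationRing.valuation R K (∏ i, t i ^ m.1 i) < 1) ∧
      ((∀ i, ValuationRing.valuation R K (t i) = 1) →
        ∀ i j, ValuationRing.valuation R K (M i j) ≤ 1) := by
  classical
  obtain ⟨A, B, t, hA, hB, hMeq⟩ := Groth.Agent.S11796.result R K n M
  set f : R →ₐ[k] K := IsScalarTower.toAlgHom k R K with hf
  have hfa : ∀ x : R, f x = algebraMap R K x := fun x => rfl
  have hAmap : A.map (algebraMap R K) = A.map f := rfl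
  have hBmap : B.map (algebraMap R K) = B.map f := rfl
  -- determinant of the diagonal part
  have ht : ∏ i, t i = 1 := by
    have h1 := congrArg Matrix.det hMeq
    rw [Matrix.det_mul, Matrix.det_mul, Matrix.det_diagonal, hM] at h1
    have hA' : (A.map (algebraMap R K)).det = 1 := by
      have := (RingHom.map_det (algebraMap R K) A).symm
      rw [RingHom.mapMatrix_apply] at this
      rw [this, hA, map_one]
    have hB' : (B.map (algebraMap R K)).det = 1 := by
      have := (RingHom.map_det (algebraMap R K) B).symm
      rw [RingHom.mapMatrix_apply] at this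
      rw [this, hB, map_one]
    rw [hA', hB', one_mul, mul_one] at h1
    exact h1.symm
  let g : Matrix (Fin n) (Fin n) k := A.map res
  have hg : g.det = 1 := by
    have := (AlgHom.map_det res A).symm
    rw [AlgHom.mapMatrix_apply] at this
    change (A.map res).det = 1
    rw [this, hA, map_one]
  let w : FormIdx n d → R := Matrix.vecMul (fun l => algebraMap k R (a l)) (Cm k d A)
  have hw : ∀ m, res (w m) = actV a g m := by
    intro m
    change res (∑ l, algebraMap k R (a l) * Cm k d A l m) = ∑ l, algebraMap k k (a l) * Cm k d g l m
    rw [map_sum]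
    refine Finset.sum_congr rfl fun l _ => ?_
    rw [map_mul, AlgHom.commutes]
    change _ = _ * Cm k d (A.map res) l m
    rw [Cm_map res A]
    rfl
  let adjB : Matrix (Fin n) (Fin n) R := B.adjugate
  have hBadj : B * adjB = 1 := by
    change B * B.adjugate = 1
    rw [Matrix.mul_adjugate, hB, one_smul]
  let z : FormIdx n d → R := Matrix.vecMul u (Cm k d adjB)
  have hz : ∀ m, algebraMap R K (z m) = algebraMap R K (w m) * ∏ i, t i ^ m.1 i := by
    intro m
    -- work in `K`
    have huK : (fun m => algebraMap R K (u m)) =
        Matrix.vecMul (fun l => algebraMap k K (a l)) (Cm k d M) := by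
      funext m'
      rw [hu m']
      rfl
    have hCM : Cm k d M = Cm k d (A.map f) * Cm k d (Matrix.diagonal t) * Cm k d (B.map f) := by
      rw [hMeq, hAmap, hBmap, Cm_mul, Cm_mul]
    have hBB : Cm k d (B.map f) * Cm k d (adjB.map f) = 1 := by
      rw [← Cm_mul]
      have : B.map f * adjB.map f = 1 := by
        have := congrArg (fun X : Matrix (Fin n) (Fin n) R => X.map f) hBadj
        simp only [Matrix.map_mul] at this
        rw [this]
        ext i j
        by_cases hij : i = j
        · subst hij; simp
        · simp [Matrix.one_apply_ne hij]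
      rw [this, Cm_one]
    have hzK : (fun m => algebraMap R K (z m)) =
        Matrix.vecMul (fun m => algebraMap R K (u m)) (Cm k d (adjB.map f)) := by
      funext m'
      change f (∑ l, u l * Cm k d adjB l m') = ∑ l, algebraMap R K (u l) * Cm k d (adjB.map f) l m'
      rw [map_sum]
      refine Finset.sum_congr rfl fun l _ => ?_
      rw [map_mul, Cm_map f adjB]
      rfl
    have hwK : (fun m => algebraMap R K (w m)) =
        Matrix.vecMul (fun l => algebraMap k K (a l)) (Cm k d (A.map f)) := by
      funext m'
      change f (∑ l, algebraMap k R (a l) * Cm k d A l m') =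
        ∑ l, algebraMap k K (a l) * Cm k d (A.map f) l m'
      rw [map_sum]
      refine Finset.sum_congr rfl fun l _ => ?_
      rw [map_mul, Cm_map f A, hfa, ← IsScalarTower.algebraMap_apply]
      rfl
    have key : (fun m => algebraMap R K (z m)) =
        Matrix.vecMul (fun m => algebraMap R K (w m)) (Cm k d (Matrix.diagonal t)) := by
      rw [hzK, huK, hCM, hwK, Matrix.vecMul_vecMul, Matrix.vecMul_vecMul]
      congr 1
      rw [Matrix.mul_assoc, hBB, Matrix.mul_one]
    have := congrArg (fun F => F m) key
    simp only at this
    rw [this, vecMul_Cm_diagonal]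
  refine ⟨g, t, hg, ht, ?_, ?_, ?_⟩
  · intro m hm
    rw [← hw m] at hm
    have hunit : IsUnit (w m) := by
      by_contra hnu
      have : w m ∈ IsLocalRing.maximalIdeal R := (IsLocalRing.mem_maximalIdeal _).mpr hnu
      rw [← hres] at this
      exact hm this
    have h1 := val_eq_one_of_isUnit (K := K) (w m) hunit
    have h2 := congrArg (ValuationRing.valuation R K) (hz m)
    rw [map_mul, h1, one_mul] at h2
    rw [← h2]
    exact (valInt R K).map_le_one (z m)
  · intro hu0 m hm
    rw [← hw m] at hm
    have hunit : IsUnit (w m) := by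
      by_contra hnu
      have : w m ∈ IsLocalRing.maximalIdeal R := (IsLocalRing.mem_maximalIdeal _).mpr hnu
      rw [← hres] at this
      exact hm this
    have h1 := val_eq_one_of_isUnit (K := K) (w m) hunit
    have h2 := congrArg (ValuationRing.valuation R K) (hz m)
    rw [map_mul, h1, one_mul] at h2
    rw [← h2]
    apply val_lt_one_of_mem
    rw [← hres]
    change res (∑ l, u l * Cm k d adjB l m) = 0
    rw [map_sum]
    refine Finset.sum_eq_zero fun l _ => ?_
    rw [map_mul, hu0 l, zero_mul]
  · intro ht1 i j
    rw [hMeq, Matrix.mul_apply]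
    refine Valuation.map_sum_le _ fun l _ => ?_
    rw [map_mul, Matrix.mul_apply]
    have h1 : ValuationRing.valuation R K (∑ l', (A.map (algebraMap R K)) i l' * Matrix.diagonal t l' l) ≤ 1 := by
      refine Valuation.map_sum_le _ fun l' _ => ?_
      rw [map_mul]
      by_cases hl : l' = l
      · subst hl
        rw [Matrix.diagonal_apply_eq, ht1, mul_one]
        exact (valInt R K).map_le_one _
      · rw [Matrix.diagonal_apply_ne _ hl, map_zero, mul_zero]
        exact zero_le_one
    have h2 : ValuationRing.valuation R K ((B.map (algebraMap R K)) l j) ≤ 1 :=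
      (valInt R K).map_le_one _
    exact mul_le_one' h1 h2

end

end Groth.Agent.H83.HM
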