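import Mathlib
import Groth.Agent.S11804

/-! Integer weights with the same signs as the valuations of finitely many monomials in given
non-zero elements (helper83). -/

set_option autoImplicit false
universe u

namespace Groth.Agent.H83.HM

/-- Given units `γ_i` of a linearly ordered group with zero and finitely many integer exponent
vectors, there are integers `r_i` such that `∏ γ_i ^ c_i < 1` iff `0 < Σ c_i r_i` and
`∏ γ_i ^ c_i = 1` iff `Σ c_i r_i = 0`, for every exponent vector `c` in the set. -/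
theorem exists_weights {Γ : Type u} [LinearOrderedCommGroupWithZero Γ] {n : ℕ}
    (γ : Fin n → Γˣ) (Φ : Finset (Fin n → ℤ)) :
    ∃ r : Fin n → ℤ, ∀ c ∈ Φ,
      ((∏ i, γ i ^ c i < 1) ↔ 0 < ∑ i, c i * r i) ∧
      ((∏ i, γ i ^ c i = 1) ↔ ∑ i, c i * r i = 0) := by
  obtain ⟨r, hr⟩ := Groth.Agent.S11804.result (Additive Γˣ) n (fun i => Additive.ofMul (γ i)) Φ
  have hsum : ∀ c : Fin n → ℤ, ∑ i, c i • Additive.ofMul (γ i) =
      Additive.ofMul (∏ i, γ i ^ c i) := by
    intro c
    rw [ofMul_prod]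
    refine Finset.sum_congr rfl fun i _ => ?_
    rw [ofMul_zpow]
  refine ⟨fun i => - r i, fun c hc => ?_⟩
  obtain ⟨h1, h2⟩ := hr c hc
  rw [hsum] at h1 h2
  have e : ∑ i, c i * -r i = - ∑ i, c i * r i := by
    rw [← Finset.sum_neg_distrib]
    exact Finset.sum_congr rfl fun i _ => by ring
  rw [e]
  have h1' : (1 < ∏ i, γ i ^ c i) ↔ 0 < ∑ i, c i * r i := h1
  have h2' : (∏ i, γ i ^ c i = 1) ↔ ∑ i, c i * r i = 0 := h2
  constructor
  · constructor
    · intro hlt
      have hn1 : ¬ (0 < ∑ i, c i * r i) := fun h => absurd (h1'.mpr h) (not_lt.mpr hlt.le)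
      have hn2 : ¬ (∑ i, c i * r i = 0) := fun h => absurd (h2'.mpr h) hlt.ne
      omega
    · intro hpos
      have hn1 : ¬ (1 < ∏ i, γ i ^ c i) := fun h => by have := h1'.mp h; omega
      have hn2 : ¬ (∏ i, γ i ^ c i = 1) := fun h => by have := h2'.mp h; omega
      exact lt_of_le_of_ne (not_lt.mp hn1) hn2
  · rw [h2']
    omega

end Groth.Agent.H83.HM
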