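import Groth.Agent.H83.HM.Val
import Groth.Agent.H83.HM.Weights

/-! From valuation data to integer weights (helper83). -/

set_option autoImplicit false
universe u

noncomputable section

namespace Groth.Agent.H83.HM

open CoordGrp

variable {k : Type u} [Field k] {n d : ℕ}

variable {R : Type u} [CommRing R] [IsDomain R] [ValuationRing R]
  {K : Type u} [Field K] [Algebra R K] [IsFractionRing R K]
  [Algebra k R] [Algebra k K] [IsScalarTower k R K]

/-- The pairing of an exponent vector with integer weights. -/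
def wt (m : FormIdx n d) (r : Fin n → ℤ) : ℤ := ∑ i, (m.1 i : ℤ) * r i

theorem val_weights (res : R →ₐ[k] k)
    (hres : RingHom.ker (res : R →+* k) = IsLocalRing.maximalIdeal R)
    (M : Matrix (Fin n) (Fin n) K) (hM : M.det = 1) (a : FormIdx n d → k) (u : FormIdx n d → R)
    (hu : ∀ m, algebraMap R K (u m) = actV a M m) :
    ∃ (g : Matrix (Fin n) (Fin n) k) (r : Fin n → ℤ), g.det = 1 ∧ ∑ i, r i = 0 ∧
      (∀ m, actV a g m ≠ 0 → 0 ≤ wt m r) ∧
      ((∀ m, res (u m) = 0) → ∀ m, actV a g m ≠ 0 → 0 < wt m r) ∧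
      (r = 0 → ∀ i j, ValuationRing.valuation R K (M i j) ≤ 1) := by
  classical
  obtain ⟨g, t, hg, ht, h1, h2, h3⟩ := val_decomp res hres M hM a u hu
  set v := ValuationRing.valuation R K with hv
  have ht0 : ∀ i, t i ≠ 0 := by
    intro i hi
    have : ∏ j, t j = 0 := Finset.prod_eq_zero (Finset.mem_univ i) hi
    rw [ht] at this
    exact one_ne_zero this
  have hvt0 : ∀ i, v (t i) ≠ 0 := fun i => (Valuation.ne_zero_iff v).mpr (ht0 i)
  let γ : Fin n → (ValuationRing.ValueGroup R K)ˣ := fun i => Units.mk0 (v (t i)) (hvt0 i)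
  let Φ : Finset (Fin n → ℤ) :=
    (Finset.univ.image fun m : FormIdx n d => fun i => (m.1 i : ℤ)) ∪
      insert (fun _ => (1 : ℤ)) (Finset.univ.image fun i : Fin n => (Pi.single i 1 : Fin n → ℤ))
  obtain ⟨r, hr⟩ := exists_weights γ Φ
  have hval : ∀ c : Fin n → ℤ, (((∏ i, γ i ^ c i : (ValuationRing.ValueGroup R K)ˣ)) :
      ValuationRing.ValueGroup R K) = ∏ i, v (t i) ^ c i := by
    intro c
    rw [Units.coe_prod]
    refine Finset.prod_congr rfl fun i _ => ?_
    rw [Units.val_zpow_eq_zpow_val]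
    rfl
  have hvalm : ∀ m : FormIdx n d, (((∏ i, γ i ^ ((m.1 i : ℕ) : ℤ) :
      (ValuationRing.ValueGroup R K)ˣ)) : ValuationRing.ValueGroup R K) =
      v (∏ i, t i ^ m.1 i) := by
    intro m
    rw [hval, map_prod]
    refine Finset.prod_congr rfl fun i _ => ?_
    rw [zpow_natCast, map_pow]
  have hmemΦ : ∀ m : FormIdx n d, (fun i => (m.1 i : ℤ)) ∈ Φ := fun m =>
    Finset.mem_union_left _ (Finset.mem_image.mpr ⟨m, Finset.mem_univ _, rfl⟩)
  have hltm : ∀ m : FormIdx n d, v (∏ i, t i ^ m.1 i) < 1 → 0 < wt m r := by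
    intro m hlt
    refine ((hr _ (hmemΦ m)).1).mp ?_
    rw [← Units.val_lt_val, hvalm]
    exact hlt
  have heqm : ∀ m : FormIdx n d, v (∏ i, t i ^ m.1 i) = 1 → wt m r = 0 := by
    intro m heq
    refine ((hr _ (hmemΦ m)).2).mp ?_
    rw [← Units.val_inj, hvalm]
    exact heq
  refine ⟨g, r, hg, ?_, ?_, ?_, ?_⟩
  · -- sum of weights
    have hmem : (fun _ => (1 : ℤ)) ∈ Φ :=
      Finset.mem_union_right _ (Finset.mem_insert_self _ _)
    have := ((hr _ hmem).2).mp (by
      rw [← Units.val_inj, hval]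
      simp only [zpow_one]
      rw [← map_prod, ht, map_one]
      rfl)
    simpa using this
  · intro m hm
    rcases lt_or_eq_of_le (h1 m hm) with h | h
    · exact (hltm m h).le
    · exact (heqm m h).ge
  · intro hu0 m hm
    exact hltm m (h2 hu0 m hm)
  · intro hr0
    apply h3
    intro i
    have hmem : (Pi.single i 1 : Fin n → ℤ) ∈ Φ :=
      Finset.mem_union_right _ (Finset.mem_insert_of_mem
        (Finset.mem_image.mpr ⟨i, Finset.mem_univ _, rfl⟩))
    have h := ((hr _ hmem).2).mpr (by rw [hr0]; simp)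
    rw [← Units.val_inj, hval] at h
    rw [Finset.prod_eq_single i] at h
    · simpa using h
    · intro j _ hj
      rw [Pi.single_eq_of_ne hj, zpow_zero]
    · intro h'; exact absurd (Finset.mem_univ i) h'

end Groth.Agent.H83.HM
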